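import Mathlib
import Cfsg.Prelude.Def_Blocks
import Cfsg.Agent.H229.RIM.Defs

/-!
# Navarro-Tiep relative Ito-Michler theorem (S4816): the form of the rows (helper665)

Interface of the skeleton: `H229/RIM/Defs.lean` (`Bad QBad RowR RowOut RowThree CoreP LayerIP LayerAP LayerBP`).
Rows are statements on the simple group `S`:
* `NB p m S`: every perfect central extension of `S` with kernel of order `m` has, over every faithful
  linear character of the kernel, an irreducible character of degree divisible by `p`; `NBall p S`: all
  `m ≥ 2` prime to `p`;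
* `EK p S`: no affine situation `CoreP` with `H / N` quasisimple over `S`;
* `Kill p S := NBall p S ∨ EK p S`;
* `NoPEx p H`: no faithful irreducible `F_p H`-module has all its orbits of size prime to `p`.
-/

set_option autoImplicit false
set_option linter.unusedSectionVars false

namespace Cfsg.Agent.H665.RIM

open Cfsg Cfsg.Agent.H229.RIM
open scoped commutatorElement

universe u

/-- `NB p m S` ("not bad"): every perfect central extension `π : E → S` with kernel of order `m` and
every faithful linear character `l` of the kernel have an irreducible character of `E` over `l` whose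
degree is divisible by `p`. -/
def NB (p m : ℕ) (S : Type u) [Group S] : Prop :=
  ∀ (E : Type u) [Group E] [Finite E] (π : E →* S), Function.Surjective π →
    π.ker ≤ Subgroup.center E → commutator E = ⊤ → Nat.card π.ker = m →
    ∀ l : π.ker →* ℂˣ, Function.Injective l →
      ∃ χ : E → ℂ, IsIrrCharacter E χ ∧ (∀ z : π.ker, χ z = χ 1 * l z) ∧ p ∣ charDegree χ

/-- `NBall p S`: not bad for every nontrivial order prime to `p` -/
def NBall (p : ℕ) (S : Type u) [Group S] : Prop :=
  ∀ m : ℕ, 2 ≤ m → ¬ p ∣ m → NB p m S

/-- `p`-subgroups are abelian -/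
def AbSyl (p : ℕ) (S : Type u) [Group S] : Prop :=
  ∀ P : Subgroup S, IsPGroup p P → ∀ a ∈ P, ∀ b ∈ P, a * b = b * a

/-- `EK p S`: no affine situation with `H / N` quasisimple (`K / N` central), `H / K ≅ S`. -/
def EK (p : ℕ) (S : Type u) [Group S] : Prop :=
  ∀ (H V : Type u) [Group H] [Finite H] [AddCommGroup V] [Finite V] [DistribMulAction H V]
    (K N : Subgroup H) (φ : N →* ℂˣ) (π : H →* S), CoreP (V := V) p K N φ →
    Function.Surjective π → π.ker = K → (∀ k ∈ K, ∀ h : H, ⁅k, h⁆ ∈ N) → False

/-- a row: the character side or the module side -/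
def Kill (p : ℕ) (S : Type u) [Group S] : Prop := NBall p S ∨ EK p S

/-- `NoPEx p H`: every faithful irreducible `F_p H`-module has an orbit of size divisible by `p`. -/
def NoPEx (p : ℕ) (H : Type u) [Group H] : Prop :=
  ∀ (V : Type u) [AddCommGroup V] [Finite V] [DistribMulAction H V],
    (∀ v : V, p • v = 0) → Nontrivial V → (∀ h : H, (∀ v : V, h • v = v) → h = 1) →
    (∀ W : AddSubgroup V, (∀ h : H, ∀ w ∈ W, h • w ∈ W) → W = ⊥ ∨ W = ⊤) →
    (∀ v : V, ¬ p ∣ (MulAction.stabilizer H v).index) → False

end Cfsg.Agent.H665.RIM
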